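import Groth.Agent.Lib.HypDef26.Main
import Groth.Agent.Lib.HypUnobs26.Main
import Groth.Agent.Lib.Deform6.Main

/-!
Deformations of hypersurfaces of projective space are hypersurface deformations.
-/

set_option autoImplicit false
set_option maxHeartbeats 1000000
set_option linter.style.haveILetI false
set_option backward.isDefEq.respectTransparency false

universe u

open CategoryTheory CategoryTheory.Limits AlgebraicGeometry TopologicalSpace Opposite
open ArtFun ArtFun.Art
open GrothLib.LocFreeHom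
open GrothLib.OmegaPn27 (Wt OD OmegaP)

attribute [local instance] GrothLib.LocFreeHom.hasSheafHom

noncomputable section

namespace GrothLib.HypDef26

variable {k : Type u} [Field k]

/-- A deformation with a compatible map to the ambient scheme is embedded. -/
theorem exists_objectOf_iso {P : Scheme.{u}} {y : P ⟶ specPt k} {I₀ : P.IdealSheafData} {A : Art k k}
    (ξ : DefSch I₀.subscheme (subOver y I₀) A) {h : ξ.total ⟶ P} (hi : ξ.i ≫ h = I₀.subschemeι)
    (hy : h ≫ y = ξ.f ≫ specOver A) :
    ∃ I : (localHilb P y I₀).obj A, Nonempty (DefSch.Iso (objectOf I) ξ) := by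
  let h' : ξ.total ⟶ XA y A := pullback.lift h ξ.f hy
  have hh1 : h' ≫ pullback.fst y (specOver A) = h := pullback.lift_fst _ _ _
  have hh2 : h' ≫ XApr y A = ξ.f := pullback.lift_snd _ _ _
  have hsq : ξ.i ≫ h' = I₀.subschemeι ≫ XAincl y A := by
    apply pullback.hom_ext
    · rw [Category.assoc, hh1, hi, Category.assoc, XAincl_fst, Category.comp_id]
    · rw [Category.assoc, hh2, ξ.i_f, Category.assoc, Category.assoc,
        show XAincl y A ≫ pullback.snd y (specOver A) = y ≫ specRes A from XAincl_snd y A]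
  have hc : IsPullback ξ.i I₀.subschemeι h' (XAincl y A) :=
    IsPullback.of_bot (by rw [hh2]; exact ξ.isPullback) hsq (isPullback_XAincl y A)
  haveI : IsClosedImmersion (specRes A) := IsClosedImmersion.spec_of_surjective _ A.res_surjective
  haveI : Subsingleton (spec A) := ⟨fun a b => PrimeSpectrum.ext <| by
    rw [IsLocalRing.eq_maximalIdeal (IsArtinianRing.isMaximal_of_isPrime a.asIdeal),
      IsLocalRing.eq_maximalIdeal (IsArtinianRing.isMaximal_of_isPrime b.asIdeal)]⟩
  haveI : Surjective (specRes A) := ⟨fun x => ⟨Classical.arbitrary _, Subsingleton.elim _ x⟩⟩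
  have hS := isNilpotent_ker_specRes A
  haveI : IsFinite h' := Deform6.isFinite_of_deform hS (isPullback_XAincl y A) hc
  haveI : IsClosedImmersion (XAincl y A) :=
    MorphismProperty.of_isPullback (P := @IsClosedImmersion) (isPullback_XAincl y A).flip inferInstance
  haveI : Mono h' := Deform6.mono_of_isNilpotent
    (Deform6.isNilpotent_ker_of_isPullback (isPullback_XAincl y A) hS) hc
  haveI : IsClosedImmersion h' := (IsClosedImmersion.iff_isFinite_and_mono h').2 ⟨inferInstance, inferInstance⟩
  let e := h'.toImage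
  have he : e ≫ h'.ker.subschemeι = h' := h'.toImage_imageι
  haveI : IsIso e := inferInstance
  have hflat : FlatOver P y A h'.ker := by
    unfold FlatOver
    refine (MorphismProperty.cancel_left_of_respectsIso @Flat e _).1 ?_
    rw [← Category.assoc, he, hh2]
    exact ξ.flat
  have hfib : h'.ker.comap (XAincl y A) = I₀ := by
    rw [← FSchSys.ker_eq_comap_of_isPullback hc.flip, Scheme.IdealSheafData.ker_subschemeι]
  let I : (localHilb P y I₀).obj A := ⟨h'.ker, hflat, hfib⟩
  refine ⟨I, ⟨⟨(asIso e).symm, ?_, ?_⟩⟩⟩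
  · show inv e ≫ ξ.f = h'.ker.subschemeι ≫ XApr y A
    rw [IsIso.inv_comp_eq, ← Category.assoc, he, hh2]
  · show (objectOf I).i ≫ inv e = ξ.i
    rw [IsIso.comp_inv_eq]
    haveI : Mono I.1.subschemeι := inferInstance
    exact (cancel_mono I.1.subschemeι).1 ((objectOf_i_compat I).trans
      (hsq.symm.trans ((congrArg (ξ.i ≫ ·) he.symm).trans (Category.assoc _ _ _).symm)))

variable {n d : ℕ}

/-- The restricted tangent sheaf of a hypersurface has no first cohomology off the exceptions. -/
theorem noH1_hyp (hn : 2 ≤ n) (hd : 1 ≤ d) (F : LefPen.Form n k d) (hF : F ≠ 0)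
    (hnd : ¬ ((n = 2 ∧ 5 ≤ d) ∨ (n = 3 ∧ d = 4))) :
    NoH1 (CohB1.ProjSpace.toSpec n k) (LefPen.hypIdeal F).subschemeι := by
  haveI : IsProper (CohB1.ProjSpace.toSpec n k) := Chow.isProper_toSpec n k
  haveI : QuasiSeparated (CohB1.ProjSpace.toSpec n k) := inferInstance
  letI : (LefPen.hypIdeal F).subscheme.Over (Spec (CommRingCat.of k)) :=
    ⟨(LefPen.hypIdeal F).subschemeι ≫ CohB1.ProjSpace.toSpec n k⟩
  haveI : (LefPen.hypIdeal F).subschemeι.IsOver (Spec (CommRingCat.of k)) := ⟨rfl⟩
  obtain ⟨p, hp⟩ : ∃ p, 1 + p = n := ⟨n - 1, by omega⟩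
  obtain ⟨e⟩ := HypVan12.nonempty_tangent_equiv (k := k) (q := 1) hp F hF one_pos
  haveI := (HypVan12.subsingleton_H2_tangent_iff (k := k) (N := n) (p := p) (d := d) hn hp hd).2 hnd
  haveI := e.toEquiv.subsingleton
  obtain ⟨D⟩ := HypVan12.nonempty_pullback_dual (LefPen.hypIdeal F).subschemeι
    (OmegaPn27.isFinLocFree_omegaP n k)
  unfold NoH1
  exact (Euler.hhEquiv (A := k) D.symm 1).toEquiv.subsingleton

/-- Every deformation of a hypersurface is embedded off the exceptions. -/
theorem exists_localHilb (hn : 2 ≤ n) (hd : 1 ≤ d) (F : LefPen.Form n k d) (hF : F ≠ 0)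
    (hnd : ¬ ((n = 2 ∧ 5 ≤ d) ∨ (n = 3 ∧ d = 4))) {A : Art k k}
    (ξ : DefSch (LefPen.hypIdeal F).subscheme (subOver (CohB1.ProjSpace.toSpec n k) (LefPen.hypIdeal F)) A) :
    ∃ I : (localHilb (CohB1.ProjSpace n k) (CohB1.ProjSpace.toSpec n k) (LefPen.hypIdeal F)).obj A,
      Nonempty (DefSch.Iso (objectOf I) ξ) := by
  haveI := OmegaPn27.smoothOfRelativeDimension_toSpec n k
  haveI : Smooth (CohB1.ProjSpace.toSpec n k) := SmoothOfRelativeDimension.smooth n _
  haveI : IsProper (CohB1.ProjSpace.toSpec n k) := Chow.isProper_toSpec n k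
  haveI : IsSeparated (CohB1.ProjSpace.toSpec n k) := inferInstance
  obtain ⟨h, h1, h2⟩ := exists_hom (noH1_hyp hn hd F hF hnd) rfl ξ
  exact exists_objectOf_iso ξ h1 h2

/-- Deformations of smooth surfaces of degree at least six lift. -/
theorem isSmoothFunctor_surface (hd : 6 ≤ d) (F : LefPen.Form 3 k d) (hF : F ≠ 0)
    {B A : Art k k} (p : B ⟶ A) (hp : Art.IsSemismallExt p)
    (ξ : DefSch (LefPen.hypIdeal F).subscheme (subOver (CohB1.ProjSpace.toSpec 3 k) (LefPen.hypIdeal F)) A) :
    ∃ η : DefSch (LefPen.hypIdeal F).subscheme (subOver (CohB1.ProjSpace.toSpec 3 k) (LefPen.hypIdeal F)) B,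
      Nonempty (DefSch.Iso (η.baseChange p) ξ) := by
  obtain ⟨I, ⟨e⟩⟩ := exists_localHilb (by omega) (by omega) F hF (by omega) ξ
  obtain ⟨I', rfl⟩ := HypUnobs26.surjective_map (by omega) F hF p hp I
  refine ⟨objectOf I', ⟨DefSch.Iso.trans ?_ e⟩⟩
  let f := XAmap (CohB1.ProjSpace.toSpec 3 k) p
  have sq : IsPullback (pullback.snd f I'.1.subschemeι)
      (pullback.fst f I'.1.subschemeι ≫ XApr (CohB1.ProjSpace.toSpec 3 k) A)
      (I'.1.subschemeι ≫ XApr (CohB1.ProjSpace.toSpec 3 k) B) (specMap p) :=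
    IsPullback.paste_vert (IsPullback.of_hasPullback f I'.1.subschemeι).flip (isPullback_XAmap _ p)
  let J := (localHilb (CohB1.ProjSpace 3 k) (CohB1.ProjSpace.toSpec 3 k) (LefPen.hypIdeal F)).map p I'
  let c := I'.1.comapIso f
  let u := (IsPullback.of_hasPullback (objectOf I').f (specMap p)).isoIsPullback _ _ sq
  refine ⟨u ≪≫ c.symm, ?_, ?_⟩
  · show (u.hom ≫ c.inv) ≫ (I'.1.comap f).subschemeι ≫ XApr _ A = _
    rw [Category.assoc]
    have hc : c.inv ≫ (I'.1.comap f).subschemeι = pullback.fst f I'.1.subschemeι := by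
      rw [Iso.inv_comp_eq, Scheme.IdealSheafData.comapIso_hom_fst]
    rw [reassoc_of% hc]
    exact IsPullback.isoIsPullback_hom_snd _ _ _ _
  · show ((objectOf I').baseChange p).i ≫ u.hom ≫ c.inv = (objectOf J).i
    haveI : Mono J.1.subschemeι := inferInstance
    refine (cancel_mono J.1.subschemeι).1 ?_
    rw [objectOf_i_compat]
    have hc : c.inv ≫ J.1.subschemeι = pullback.fst f I'.1.subschemeι := by
      show c.inv ≫ (I'.1.comap f).subschemeι = _
      rw [Iso.inv_comp_eq, Scheme.IdealSheafData.comapIso_hom_fst]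
    have hu1 : u.hom ≫ pullback.snd f I'.1.subschemeι = pullback.fst (objectOf I').f (specMap p) :=
      IsPullback.isoIsPullback_hom_fst _ _ _ sq
    have hu2 : u.hom ≫ pullback.fst f I'.1.subschemeι ≫ XApr (CohB1.ProjSpace.toSpec 3 k) A =
        pullback.snd (objectOf I').f (specMap p) := IsPullback.isoIsPullback_hom_snd _ _ _ sq
    rw [Category.assoc, Category.assoc, hc]
    apply (isPullback_XAmap (CohB1.ProjSpace.toSpec 3 k) p).hom_ext
    · rw [Category.assoc, Category.assoc, Category.assoc, XAincl_XAmap]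
      refine Eq.trans ?_ (objectOf_i_compat I')
      refine (congrArg (fun t => ((objectOf I').baseChange p).i ≫ u.hom ≫ t) pullback.condition).trans ?_
      refine (congrArg (fun t => ((objectOf I').baseChange p).i ≫ t) ((Category.assoc _ _ _).symm.trans (congrArg (· ≫ I'.1.subschemeι) hu1))).trans ?_
      exact (Category.assoc _ _ _).symm.trans (congrArg (· ≫ _) (DefSch.baseChange_i_fst (objectOf I') p))
    · rw [Category.assoc, Category.assoc, Category.assoc, XAincl_snd]
      refine (congrArg (fun t => ((objectOf I').baseChange p).i ≫ t) hu2).trans ?_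
      exact (DefSch.baseChange_i_f (objectOf I') p).trans (Category.assoc _ _ _)

end GrothLib.HypDef26
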