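import Groth.Agent.Lib.ExtendSm26.Unique
import Groth.Agent.Lib.HypVan12.Tangent
import Groth.Agent.Lib.DefAut26.Base
import Groth.Agent.Lib.ASBun21.PushFree
import Groth.Agent.Lib.CMReg.Free
import Groth.Agent.Lib.RegPow10.Main
import Groth.Agent.Lib.ModDesc.Approx
import Groth.Agent.Lib.ClosedHom20.Basic
import Groth.Agent.Lib.FSchSys.Descent
import Groth.Prelude.Def_ArtFun6
import Groth.Prelude.Def_ArtFun3

/-!
Every infinitesimal deformation of a subscheme with `H¹(T_P|Z) = 0` is embedded.
-/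

set_option autoImplicit false
set_option maxHeartbeats 1000000
set_option linter.style.haveILetI false
set_option backward.isDefEq.respectTransparency false

universe u

open CategoryTheory CategoryTheory.Limits AlgebraicGeometry TopologicalSpace Opposite
open ArtFun ArtFun.Art
open GrothLib.LocFreeHom
open GrothLib.BlowUp (idealSheaf ideal_idealSheaf_top)

attribute [local instance] GrothLib.LocFreeHom.hasSheafHom

noncomputable section

namespace GrothLib.HypDef26

/-- An ideal killing another kills its module. -/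
theorem killed_idealMod_of_mul {X : Scheme.{u}} {Z : Scheme.{u}} (i : Z ⟶ X) [IsClosedImmersion i]
    (K : X.IdealSheafData) (h : i.ker * K = ⊥) : ClSub.KilledByIdeal i.ker (ClSub.idealMod K) := by
  intro U a ha m
  apply IdealModSec.val_injective K U.1
  rw [IdealModSec.val_smul, IdealModSec.val_zero]
  have h1 := Ideal.mul_mem_mul ha (IdealModSec.val_mem K U m)
  have h2 : i.ker.ideal U * K.ideal U = ⊥ := by
    have := congrArg (fun J : X.IdealSheafData => J.ideal U) h
    simpa using this
  rw [h2] at h1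
  exact h1

/-- Pulling back a direct image along a closed immersion. -/
theorem nonempty_pull_push {Z T : Scheme.{u}} (i : Z ⟶ T) [IsClosedImmersion i] (M : Z.Modules) :
    Nonempty ((Scheme.Modules.pullback i).obj ((Scheme.Modules.pushforward i).obj M) ≅ M) := by
  obtain ⟨h1, h2⟩ := ClosedHom20.full_faithful_pushforward i
  haveI := ClosedHom20.isIso_unit_push i M
  exact ⟨(Functor.FullyFaithful.ofFullyFaithful (Scheme.Modules.pushforward i)).preimageIso
    (asIso ((Scheme.Modules.pullbackPushforwardAdjunction i).unit.app ((Scheme.Modules.pushforward i).obj M))).symm⟩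

/-- The projection formula for sheaves of homomorphisms. -/
theorem nonempty_iHom_push {Z T : Scheme.{u}} (i : Z ⟶ T) [IsClosedImmersion i] {E : T.Modules}
    (hE : FlatMod.IsFinLocFree E) (N : Z.Modules) :
    Nonempty (iHom E ((Scheme.Modules.pushforward i).obj N) ≅
      (Scheme.Modules.pushforward i).obj (iHom ((Scheme.Modules.pullback i).obj E) N)) := by
  have hd : FlatMod.IsFinLocFree (LocFreeDual20.dual E) :=
    LocFreeHom.isFinLocFree_iHom hE (Euler.isFinLocFree_of_isInvertible (ParaPair.isInvertible_structure T))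
  haveI := LocFreeDual20.isIso_θ hE ((Scheme.Modules.pushforward i).obj N)
  haveI := LocFreeDual20.isIso_θ (OX.isFinLocFree_pullback i hE) N
  haveI := ProjFormula.isIso_projHom i hd N
  obtain ⟨d⟩ := HypVan12.nonempty_pullback_dual i hE
  exact ⟨(asIso (LocFreeDual20.θ E ((Scheme.Modules.pushforward i).obj N))).symm ≪≫
    GrTilde.tensorModComm _ _ ≪≫ asIso (ProjFormula.projHom i (LocFreeDual20.dual E) N) ≪≫
    (Scheme.Modules.pushforward i).mapIso
      (Ample.LineData.tensorModMapIso d (Iso.refl N) ≪≫ GrTilde.tensorModComm _ _ ≪≫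
        asIso (LocFreeDual20.θ ((Scheme.Modules.pullback i).obj E) N))⟩

/-- A morphism on a square-zero closed subscheme extends when `H¹` vanishes. -/
theorem exists_extension_H1 {X Y S T₀ : Scheme.{u}} {p : X ⟶ S} {q : Y ⟶ S} [Smooth q] [QuasiSeparated q]
    {i : T₀ ⟶ X} [IsClosedImmersion i] {g : T₀ ⟶ Y} (hI : i.ker ^ 2 = ⊥) (hg : g ≫ q = i ≫ p)
    (hH1 : Subsingleton (Coh.HH T₀
      ((DCoh.sheafHom ((Scheme.Modules.pullback g).obj (Omega.sheaf q))).obj (Omega.conormal i)) 1)) :
    ∃ h : X ⟶ Y, i ≫ h = g ∧ h ≫ q = p := by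
  have hloc : ∀ z : T₀, ∃ W : T₀.Opens, z ∈ W ∧
      Nonempty (LiftTors4.Lift q i hI p g hg W) := fun z => by
    obtain ⟨U, b, hz, hb₁, hb₂⟩ := ExtendSm26.exists_local_lift_imm hI hg z
    exact ⟨i ⁻¹ᵁ U, hz, LiftTors4.nonempty_lift q i hI p g hg b hb₁ hb₂ le_rfl⟩
  obtain ⟨s, -⟩ := (TorsH1.hasSection_iff _).1
    (TorsH1.hasSection_of_subsingleton hH1 (LiftTors4.torsor q i hI p g hg hloc))
  obtain ⟨h, hq, hh⟩ := LiftTors4.exists_hom_of_lift q i hI p g hg (s (Opposite.op ⊤))
  exact ⟨h, hh, hq⟩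

theorem idealSheaf_bot {A : Type u} [CommRing A] : idealSheaf (⊥ : Ideal A) = ⊥ := by
  refine Scheme.IdealSheafData.ext_of_isAffine ?_
  rw [ideal_idealSheaf_top, Ideal.map_bot]
  simp

theorem idealSheaf_mul {A : Type u} [CommRing A] (I J : Ideal A) :
    idealSheaf (I * J) = idealSheaf I * idealSheaf J := by
  refine Scheme.IdealSheafData.ext_of_isAffine ?_
  rw [ideal_idealSheaf_top, Ideal.map_mul]
  simp [ideal_idealSheaf_top]

variable {k : Type u} [Field k]

theorem ker_specRes (B : Art k k) : (specRes B).ker = idealSheaf (IsLocalRing.maximalIdeal B) := by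
  have h : RingHom.ker B.res.toRingHom = IsLocalRing.maximalIdeal B := by
    ext a
    exact (mem_maximalIdeal_iff B a).symm
  rw [DefAut26.ker_specMap, h]

theorem isClosedImmersion_specMap {B C : Art k k} (π : B ⟶ C) (hπ : Function.Surjective π) :
    IsClosedImmersion (specMap π) := IsClosedImmersion.spec_of_surjective _ hπ

theorem isNilpotent_ker_specRes (B : Art k k) : IsNilpotent (specRes B).ker := by
  obtain ⟨n, hn⟩ : IsNilpotent (IsLocalRing.maximalIdeal B) := by
    rw [← IsLocalRing.jacobson_eq_maximalIdeal (⊥ : Ideal B) bot_ne_top]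
    exact IsArtinianRing.isNilpotent_jacobson_bot
  refine ⟨n + 1, ?_⟩
  have key : ∀ m : ℕ, (specRes B).ker ^ (m + 1) = idealSheaf (IsLocalRing.maximalIdeal B ^ (m + 1)) := fun m => by
    induction m with
    | zero => rw [pow_one, pow_one, ker_specRes]
    | succ m ih => rw [pow_succ, ih, ker_specRes, pow_succ _ (m + 1), idealSheaf_mul]
  rw [key, pow_succ, hn, zero_mul, Ideal.zero_eq_bot, idealSheaf_bot]
  rfl

variable {P Z : Scheme.{u}} {y : P ⟶ specPt k} [Smooth y] [IsSeparated y] {z : Z ⟶ specPt k} {ι₀ : Z ⟶ P}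

/-- The hypothesis: no first cohomology of the restricted tangent sheaf. -/
def NoH1 (y : P ⟶ specPt k) (ι₀ : Z ⟶ P) : Prop :=
  Subsingleton (Coh.HH Z (iHom ((Scheme.Modules.pullback ι₀).obj (Omega.sheaf y)) (Coh.structureModule Z)) 1)

/-- The embedding extends along a small extension. -/
theorem exists_step (h0 : NoH1 y ι₀) {B C : Art k k} (π : B ⟶ C) (hπ : Function.Surjective π)
    (hm : IsLocalRing.maximalIdeal B * RingHom.ker π.toAlgHom = ⊥) (ξ : DefSch Z z B) {g : (ξ.baseChange π).total ⟶ P}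
    (hg : (ξ.baseChange π).i ≫ g = ι₀) (hgy : g ≫ y = (ξ.baseChange π).f ≫ specOver C) :
    ∃ h : ξ.total ⟶ P, ξ.i ≫ h = ι₀ ∧ h ≫ y = ξ.f ≫ specOver B := by
  haveI := isClosedImmersion_specMap π hπ
  haveI : IsClosedImmersion (specRes B) := IsClosedImmersion.spec_of_surjective _ B.res_surjective
  haveI : IsClosedImmersion (specRes C) := IsClosedImmersion.spec_of_surjective _ C.res_surjective
  let j := pullback.fst ξ.f (specMap π)
  let i₀ := (ξ.baseChange π).i
  haveI : IsClosedImmersion j := inferInstance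
  haveI : IsClosedImmersion ξ.i :=
    MorphismProperty.of_isPullback (P := @IsClosedImmersion) ξ.isPullback.flip inferInstance
  haveI : IsClosedImmersion i₀ :=
    MorphismProperty.of_isPullback (P := @IsClosedImmersion) (ξ.baseChange π).isPullback.flip inferInstance
  let K := RingHom.ker π.toAlgHom.toRingHom
  have hK : K ≤ IsLocalRing.maximalIdeal B := IsLocalRing.le_maximalIdeal (RingHom.ker_ne_top _)
  have hmK : IsLocalRing.maximalIdeal B * K = ⊥ := hm
  have hK2 : K * K = ⊥ := le_bot_iff.1 ((Ideal.mul_mono_left hK).trans hmK.le)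
  have hkπ : (specMap π).ker = idealSheaf K := DefAut26.ker_specMap _
  have hkj : j.ker = (specMap π).ker.comap ξ.f :=
    FSchSys.ker_eq_comap_of_isPullback (IsPullback.of_hasPullback ξ.f (specMap π))
  have hki : ξ.i.ker = (specRes B).ker.comap ξ.f := FSchSys.ker_eq_comap_of_isPullback ξ.isPullback
  have hI : j.ker ^ 2 = ⊥ := DerDiff26.comap_sq hkj (by
    rw [pow_two, hkπ, ← idealSheaf_mul, hK2, idealSheaf_bot])
  have hprod : ξ.i.ker * j.ker = ⊥ := by
    rw [hkj, hki, ← UnivThick.comap_mul, hkπ, ker_specRes, ← idealSheaf_mul, hmK, idealSheaf_bot]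
    exact le_antisymm (Scheme.IdealSheafData.le_map_iff_comap_le.1 bot_le) bot_le
  obtain ⟨α⟩ := DerDiff26.nonempty_pullback_idealMod_of_flat (specMap π) j (ξ.baseChange π).f ξ.f
    pullback.condition hkj
  haveI := OmegaAff.isQuasicoherent_idealMod j.ker
  have hunit := QCoh.isIso_unit_of_killed ξ.i (ClSub.idealMod j.ker) (killed_idealMod_of_mul ξ.i j.ker hprod)
  let N := (Scheme.Modules.pullback ξ.i).obj (ClSub.idealMod j.ker)
  let η : ClSub.idealMod j.ker ≅ (Scheme.Modules.pushforward j).obj ((Scheme.Modules.pushforward i₀).obj N) :=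
    (@asIso _ _ _ _ ((Scheme.Modules.pullbackPushforwardAdjunction ξ.i).unit.app (ClSub.idealMod j.ker)) hunit) ≪≫
      (Scheme.Modules.pushforwardCongr (DefSch.baseChange_i_fst ξ π).symm).app N ≪≫
      ((Scheme.Modules.pushforwardComp i₀ j).app N).symm
  obtain ⟨e1⟩ := nonempty_pull_push j ((Scheme.Modules.pushforward i₀).obj N)
  let c : Omega.conormal j ≅ (Scheme.Modules.pushforward i₀).obj N := (Scheme.Modules.pullback j).mapIso η ≪≫ e1
  let V := (Scheme.Modules.pullback (specRes B)).obj (ClSub.idealMod (specMap π).ker)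
  haveI : IsLocallyNoetherian (spec B) := inferInstanceAs (IsLocallyNoetherian (Spec _))
  obtain ⟨r, ⟨eV⟩⟩ := ASBun21.exists_iso_free_of_field (M := V)
    (ModDesc.isCoh_pullback _ _ (RegPow.isCoh_idealMod _))
  let eN : N ≅ FlatMod.freeMod Z r :=
    (Scheme.Modules.pullback ξ.i).mapIso α.symm ≪≫ (Scheme.Modules.pullbackComp ξ.i ξ.f).app _ ≪≫
      (Scheme.Modules.pullbackCongr ξ.i_f).app _ ≪≫ ((Scheme.Modules.pullbackComp z (specRes B)).app _).symm ≪≫
      (Scheme.Modules.pullback z).mapIso eV ≪≫ OX.pullFreeModIso z r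
  let E := (Scheme.Modules.pullback g).obj (Omega.sheaf y)
  let E0 := (Scheme.Modules.pullback ι₀).obj (Omega.sheaf y)
  have hE : FlatMod.IsFinLocFree E := OX.isFinLocFree_pullback g (OmegaAb15.isFinLocFree_omega y)
  have hE0 : FlatMod.IsFinLocFree E0 := OX.isFinLocFree_pullback ι₀ (OmegaAb15.isFinLocFree_omega y)
  let a : E0 ≅ (Scheme.Modules.pullback i₀).obj E :=
    ((Scheme.Modules.pullbackComp i₀ g).app _ ≪≫ (Scheme.Modules.pullbackCongr hg).app _).symm
  haveI : PreservesFiniteColimits (DCoh.sheafHom E0) := LocFreeDual20.preservesFiniteColimits_sheafHom hE0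
  haveI hfree : Subsingleton (Coh.HH Z (iHom E0 (FlatMod.freeMod Z r)) 1) := by
    have hs : Subsingleton (Coh.HH Z (∐ fun _ : Fin r => iHom E0 (Coh.structureModule Z)) 1) :=
      CMReg.subsingleton_HH_sigma _ fun _ => h0
    letI : Z.Over (Spec (CommRingCat.of k)) := ⟨z⟩
    haveI := hs
    exact (Euler.hhEquiv (A := k)
      (PreservesCoproduct.iso (DCoh.sheafHom E0) (fun _ : Fin r => Coh.structureModule Z)) 1).toEquiv.subsingleton
  obtain ⟨w⟩ := nonempty_iHom_push i₀ hE N
  letI : Z.Over (Spec (CommRingCat.of k)) := ⟨i₀ ≫ g ≫ y⟩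
  letI : (ξ.baseChange π).total.Over (Spec (CommRingCat.of k)) := ⟨g ≫ y⟩
  haveI : i₀.IsOver (Spec (CommRingCat.of k)) := ⟨rfl⟩
  haveI : Subsingleton (Coh.HH Z (iHom ((Scheme.Modules.pullback i₀).obj E) N) 1) :=
    (Euler.hhEquiv (A := k) (iHomCongr a eN) 1).toEquiv.subsingleton
  obtain ⟨f⟩ := SerrePn27.nonempty_HH_push_equiv (k := k) i₀ (iHom ((Scheme.Modules.pullback i₀).obj E) N) 1
  haveI := f.symm.toEquiv.subsingleton
  have hH1 : Subsingleton (Coh.HH (ξ.baseChange π).total ((DCoh.sheafHom E).obj (Omega.conormal j)) 1) :=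
    (Euler.hhEquiv (A := k) (iHomCongr (Iso.refl E) c ≪≫ w) 1).toEquiv.subsingleton
  obtain ⟨h, hh, hhy⟩ := exists_extension_H1 (p := ξ.f ≫ specOver B) (q := y) (i := j) (g := g) hI (by
    rw [hgy, ← specOver_comp π]
    exact (pullback.condition_assoc _).symm) hH1
  refine ⟨h, ?_, hhy⟩
  rw [← DefSch.baseChange_i_fst ξ π, Category.assoc]
  exact (congrArg (_ ≫ ·) hh).trans hg

/-- The embedding extends to every deformation. -/
theorem exists_hom (h0 : NoH1 y ι₀) (hι : ι₀ ≫ y = z) {A : Art k k} (ξ : DefSch Z z A) :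
    ∃ h : ξ.total ⟶ P, ξ.i ≫ h = ι₀ ∧ h ≫ y = ξ.f ≫ specOver A := by
  suffices key : ∀ (I : Ideal A) (B : Art k k) (q : A ⟶ B), Function.Surjective q →
      RingHom.ker q.toAlgHom.toRingHom = I →
      ∃ h : (ξ.baseChange q).total ⟶ P, (ξ.baseChange q).i ≫ h = ι₀ ∧
        h ≫ y = (ξ.baseChange q).f ≫ specOver B by
    obtain ⟨h, h1, h2⟩ := key _ A (𝟙 A) Function.surjective_id rfl
    let e := DefSch.baseChangeId ξ
    refine ⟨e.iso.inv ≫ h, ?_, ?_⟩
    · rw [← h1, ← Category.assoc]
      congr 1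
      exact e.symm.i_hom
    · rw [Category.assoc, h2, ← Category.assoc]
      congr 1
      exact e.symm.hom_f
  intro I
  induction I using WellFoundedGT.induction with
  | ind I ih =>
  intro B q hq hker
  by_cases hB : IsLocalRing.maximalIdeal B = ⊥
  · let η := ξ.baseChange q
    have hinj : Function.Injective B.res := (injective_iff_map_eq_zero _).2 fun a ha => by
      have := (mem_maximalIdeal_iff B a).2 ha
      rwa [hB] at this
    haveI : IsIso (CommRingCat.ofHom B.res.toRingHom) :=
      (ConcreteCategory.isIso_iff_bijective _).2 ⟨hinj, B.res_surjective⟩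
    haveI : IsIso (specRes B) := inferInstance
    haveI : IsIso η.i := η.isPullback.isIso_fst_of_isIso
    refine ⟨inv η.i ≫ ι₀, IsIso.hom_inv_id_assoc _ _, ?_⟩
    rw [Category.assoc, hι, IsIso.inv_comp_eq, reassoc_of% η.i_f]
    exact (congrArg (z ≫ ·) (specRes_comp (ofBase B)) |>.trans (comp_specRes_base z)).symm
  · obtain ⟨n, hn⟩ : IsNilpotent (IsLocalRing.maximalIdeal B) := by
      rw [← IsLocalRing.jacobson_eq_maximalIdeal (⊥ : Ideal B) bot_ne_top]
      exact IsArtinianRing.isNilpotent_jacobson_bot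
    classical
    let P' : ℕ → Prop := fun m => IsLocalRing.maximalIdeal B ^ m = ⊥
    have hex : ∃ m, P' m := ⟨n, hn⟩
    obtain ⟨m, hm⟩ : ∃ m, Nat.find hex = m + 1 := by
      refine Nat.exists_eq_succ_of_ne_zero fun h => ?_
      have := Nat.find_spec hex
      rw [h] at this
      simp only [P', pow_zero, Ideal.one_eq_top] at this
      exact top_ne_bot this
    have hm0 : IsLocalRing.maximalIdeal B ^ m ≠ ⊥ := Nat.find_min hex (by omega : m < Nat.find hex)
    have hm1 : m ≠ 0 → IsLocalRing.maximalIdeal B ^ m ≤ IsLocalRing.maximalIdeal B := fun h => Ideal.pow_le_self h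
    have hmne : m ≠ 0 := fun h => by
      have := Nat.find_spec hex
      rw [hm, h] at this
      exact hB (by simpa [P'] using this)
    obtain ⟨t, htm, ht0⟩ := Submodule.exists_mem_ne_zero_of_ne_bot hm0
    let Kt : Ideal B := Ideal.span {t}
    have hKt : Kt ≤ IsLocalRing.maximalIdeal B :=
      (Ideal.span_singleton_le_iff_mem _).2 (hm1 hmne htm)
    let π := quotMk B Kt hKt
    have hkπ : RingHom.ker π.toAlgHom = Kt := Ideal.mk_ker
    have hmul : IsLocalRing.maximalIdeal B * RingHom.ker π.toAlgHom = ⊥ := by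
      refine le_bot_iff.1 ((Ideal.mul_mono_right (hkπ.le.trans ((Ideal.span_singleton_le_iff_mem _).2 htm))).trans ?_)
      rw [← pow_succ']
      have := Nat.find_spec hex
      rw [hm] at this
      exact this.le
    have hlt : I < RingHom.ker (q ≫ π).toAlgHom.toRingHom := by
      refine lt_of_le_of_ne (fun a ha => ?_) fun he => ?_
      · rw [← hker] at ha
        show π (q a) = 0
        rw [show q a = 0 from ha]
        exact map_zero _
      · obtain ⟨a, ha⟩ := hq t
        have : a ∈ RingHom.ker (q ≫ π).toAlgHom.toRingHom := by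
          show π (q a) = 0
          rw [ha]
          exact Ideal.Quotient.eq_zero_iff_mem.2 (Ideal.mem_span_singleton_self t)
        rw [← he, ← hker] at this
        exact ht0 (ha ▸ this)
    obtain ⟨g, hg1, hg2⟩ := ih _ hlt _ (q ≫ π) ((quotMk_surjective B Kt hKt).comp hq) rfl
    let e := DefSch.baseChangeComp ξ q π
    refine exists_step h0 π (quotMk_surjective B Kt hKt) hmul (ξ.baseChange q) (g := e.iso.inv ≫ g) ?_ ?_
    · rw [← hg1, ← Category.assoc]
      congr 1
      exact e.symm.i_hom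
    · rw [Category.assoc, hg2, ← Category.assoc]
      congr 1
      exact e.symm.hom_f

end GrothLib.HypDef26
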